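import Groth.Agent.FlatDescent.Criterion
import Mathlib.RingTheory.Flat.TorsionFree
import Mathlib.RingTheory.Regular.IsSMulRegular
import Mathlib.RingTheory.LocalRing.ResidueField.Ideal

/-!
# Fibrewise regular elements on flat finitely presented modules
-/

set_option autoImplicit false
universe u

open TensorProduct Polynomial

namespace Groth.Agent.FibreReg

/-- Over a field, an element of the maximal ideal which is regular on a module makes it flat over `K[X]`. -/
theorem flat_polynomial_of_regular {K T N : Type u} [Field K] [CommRing T] [IsLocalRing T] (ψ : K →+* T) {t : T}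
    (ht : t ∈ IsLocalRing.maximalIdeal T) [AddCommGroup N] [Module T N] (hreg : IsSMulRegular N t)
    [Module K[X] N] (hsmul : ∀ (h : K[X]) (y : N), h • y = Polynomial.eval₂ ψ t h • y) : Module.Flat K[X] N := by
  rw [Module.Flat.flat_iff_torsion_eq_bot_of_isBezout, eq_bot_iff]
  intro y hy
  obtain ⟨⟨h, hh⟩, hy0⟩ := (Submodule.mem_torsion_iff _).1 hy
  change h • y = 0 at hy0
  rw [hsmul] at hy0
  have hne : h ≠ 0 := nonZeroDivisors.ne_zero hh
  obtain ⟨g, hg, hdiv⟩ := Polynomial.exists_eq_pow_rootMultiplicity_mul_and_not_dvd h hne 0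
  have hu : IsUnit (Polynomial.eval₂ ψ t g) := by
    by_contra hu
    have hg0 : ψ (g.coeff 0) ∈ IsLocalRing.maximalIdeal T := by
      have h1 : Polynomial.eval₂ ψ t g - ψ (g.coeff 0) ∈ IsLocalRing.maximalIdeal T := by
        have : Polynomial.eval₂ ψ t g - ψ (g.coeff 0) = t * Polynomial.eval₂ ψ t g.divX := by
          conv_lhs => arg 1; rw [← Polynomial.X_mul_divX_add g]
          rw [Polynomial.eval₂_add, Polynomial.eval₂_mul, Polynomial.eval₂_X, Polynomial.eval₂_C, add_sub_cancel_right]
        rw [this]
        exact Ideal.mul_mem_right _ _ ht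
      simpa using sub_mem ((IsLocalRing.mem_maximalIdeal _).2 hu) h1
    have hc : g.coeff 0 = 0 := by
      by_contra hc
      exact (IsLocalRing.mem_maximalIdeal _).1 hg0 ((isUnit_iff_ne_zero.2 hc).map ψ)
    exact hdiv (by rw [map_zero, sub_zero]; exact Polynomial.X_dvd_iff.2 hc)
  rw [hg, Polynomial.eval₂_mul, Polynomial.eval₂_pow, Polynomial.eval₂_sub, Polynomial.eval₂_X, Polynomial.eval₂_C,
    map_zero, sub_zero, mul_smul] at hy0
  rw [Submodule.mem_bot]
  exact hu.smul_eq_zero.1 ((hreg.pow _).right_eq_zero_of_smul hy0)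

variable {A B : Type u} [CommRing A] [CommRing B] [Algebra A B] (M : Type u) [AddCommGroup M] [Module B M] [Module A M]
  [IsScalarTower A B M] (q : Ideal B) [q.IsPrime]

/-- The fibre module, localised. -/
abbrev LocFibre : Type u := LocalizedModule q.primeCompl (M ⊗[A] (q.comap (algebraMap A B)).ResidueField)

theorem algebraMap_notMem {a : A} (ha : a ∉ q.comap (algebraMap A B)) : algebraMap A B a ∈ q.primeCompl := ha

/-- An element regular on the localised fibre is regular on `M_q / p M_q`. -/
theorem regular_on_quotient (b : B) (hreg : IsSMulRegular (LocFibre (A := A) M q) b) :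
    IsSMulRegular (LocalizedModule q.primeCompl M ⧸
      ((q.comap (algebraMap A B)).map (algebraMap A (Localization.AtPrime q)) • ⊤ :
        Submodule (Localization.AtPrime q) (LocalizedModule q.primeCompl M))) b := by
  set p := q.comap (algebraMap A B)
  set K := p.ResidueField
  set T := Localization.AtPrime q
  set Mq := LocalizedModule q.primeCompl M
  set pT := p.map (algebraMap A T)
  let N := Mq ⧸ (pT • ⊤ : Submodule T Mq)
  let ψ₀ : A ⧸ p →+* T ⧸ pT := Ideal.quotientMap pT (algebraMap A T) Ideal.le_comap_map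
  have hunit : ∀ y : nonZeroDivisors (A ⧸ p), IsUnit (ψ₀ y) := by
    rintro ⟨y, hy⟩
    obtain ⟨a, rfl⟩ := Ideal.Quotient.mk_surjective y
    show IsUnit (Ideal.Quotient.mk pT (algebraMap A T a))
    refine IsUnit.map _ ?_
    rw [IsScalarTower.algebraMap_apply A B T]
    refine IsLocalization.map_units T (⟨algebraMap A B a, fun h => ?_⟩ : q.primeCompl)
    exact nonZeroDivisors.ne_zero hy (Ideal.Quotient.eq_zero_iff_mem.mpr h)
  let ψ : K →+* T ⧸ pT := IsLocalization.lift hunit
  have hψ : ∀ a : A, ψ (algebraMap A K a) = Ideal.Quotient.mk pT (algebraMap A T a) := fun a => by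
    rw [IsScalarTower.algebraMap_apply A (A ⧸ p) K]
    exact IsLocalization.lift_eq hunit _
  -- the map to the localised fibre
  let i₀ : M →ₗ[B] LocFibre (A := A) M q :=
    (LocalizedModule.mkLinearMap q.primeCompl _) ∘ₗ (TensorProduct.AlgebraTensorModule.mk A B M K).flip 1
  have hunitP : ∀ s : q.primeCompl, IsUnit (algebraMap B (Module.End B (LocFibre (A := A) M q)) s) := fun s =>
    IsLocalizedModule.map_units (LocalizedModule.mkLinearMap q.primeCompl (M ⊗[A] K)) s
  let i : Mq →ₗ[B] LocFibre (A := A) M q := LocalizedModule.lift q.primeCompl i₀ hunitP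
  have hi : ∀ m, i (LocalizedModule.mk m 1) = LocalizedModule.mk (m ⊗ₜ[A] (1 : K)) 1 := fun m =>
    LinearMap.congr_fun (LocalizedModule.lift_comp q.primeCompl i₀ hunitP) m
  let iT : Mq →ₗ[T] LocFibre (A := A) M q := LinearMap.extendScalarsOfIsLocalization q.primeCompl T i
  have hker : (pT • ⊤ : Submodule T Mq) ≤ LinearMap.ker iT := by
    refine Submodule.smul_le.2 fun a ha x _ => ?_
    rw [LinearMap.mem_ker, map_smul]
    induction ha using Submodule.span_induction with
    | mem y hy =>
      obtain ⟨a, ha, rfl⟩ := hy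
      generalize iT x = z
      induction z using LocalizedModule.induction_on with
      | h t s =>
        rw [IsScalarTower.algebraMap_apply A B T, algebraMap_smul, LocalizedModule.smul'_mk,
          show algebraMap A B a • t = (0 : M ⊗[A] K) by
            induction t using TensorProduct.induction_on with
            | zero => simp
            | add u v hu hv => rw [smul_add, hu, hv, add_zero]
            | tmul m k =>
              rw [TensorProduct.smul_tmul', algebraMap_smul, TensorProduct.smul_tmul, Algebra.smul_def,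
                Ideal.algebraMap_residueField_eq_zero.2 ha, zero_mul, TensorProduct.tmul_zero],
          LocalizedModule.zero_mk]
    | zero => rw [zero_smul]
    | add u v _ _ hu hv => rw [add_smul, hu, hv, add_zero]
    | smul c u _ hu => rw [smul_assoc, hu, smul_zero]
  let u : N →ₗ[T] LocFibre (A := A) M q := Submodule.liftQ _ iT hker
  -- the map back
  let bil : M →ₗ[B] K →ₗ[A] N :=
    { toFun := fun m =>
        { toFun := fun k => ψ k • (Submodule.Quotient.mk (LocalizedModule.mk m 1) : N)
          map_add' := fun k l => by rw [map_add, add_smul]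
          map_smul' := fun a k => by
            rw [RingHom.id_apply, Algebra.smul_def, map_mul, mul_smul, hψ,
              ← Ideal.Quotient.algebraMap_eq, algebraMap_smul, algebraMap_smul] }
      map_add' := fun m m' => LinearMap.ext fun k => by
        show ψ k • (Submodule.Quotient.mk (LocalizedModule.mk (m + m') 1) : N) = _
        rw [← LocalizedModule.mkLinearMap_apply, map_add, Submodule.Quotient.mk_add, smul_add]
        rfl
      map_smul' := fun c m => LinearMap.ext fun k => by
        show ψ k • (Submodule.Quotient.mk (LocalizedModule.mk (c • m) 1) : N) = c • (ψ k • (Submodule.Quotient.mk (LocalizedModule.mk m 1) : N))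
        rw [← LocalizedModule.smul'_mk, Submodule.Quotient.mk_smul, smul_comm] }
  let v₀ : M ⊗[A] K →ₗ[B] N := TensorProduct.AlgebraTensorModule.lift bil
  have hunitN : ∀ s : q.primeCompl, IsUnit (algebraMap B (Module.End B N) s) := fun s => by
    rw [Module.End.isUnit_iff]
    obtain ⟨w, hw⟩ := IsLocalization.map_units T s
    refine Function.bijective_iff_has_inverse.2 ⟨fun y => (↑w⁻¹ : T) • y, fun y => ?_, fun y => ?_⟩
    · show (↑w⁻¹ : T) • (s : B) • y = y
      rw [← algebraMap_smul T (s : B) y, ← hw, smul_smul, Units.inv_mul, one_smul]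
    · show (s : B) • (↑w⁻¹ : T) • y = y
      rw [← algebraMap_smul T (s : B), ← hw, smul_smul, Units.mul_inv, one_smul]
  let v : LocFibre (A := A) M q →ₗ[B] N := LocalizedModule.lift q.primeCompl v₀ hunitN
  have hvu : ∀ y, v (u y) = y := by
    intro y
    obtain ⟨y, rfl⟩ := Submodule.Quotient.mk_surjective _ y
    show (v ∘ₗ i) y = ((Submodule.mkQ (pT • ⊤ : Submodule T Mq)).restrictScalars B) y
    revert y
    refine LinearMap.congr_fun (IsLocalizedModule.ext q.primeCompl (LocalizedModule.mkLinearMap q.primeCompl M) hunitN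
      (LinearMap.ext fun m => ?_))
    show v (i (LocalizedModule.mk m 1)) = Submodule.Quotient.mk (LocalizedModule.mk m 1)
    rw [hi, show v (LocalizedModule.mk (m ⊗ₜ[A] (1 : K)) 1) = v₀ (m ⊗ₜ[A] (1 : K)) from
      LinearMap.congr_fun (LocalizedModule.lift_comp q.primeCompl v₀ hunitN) _]
    show ψ 1 • (Submodule.Quotient.mk (LocalizedModule.mk m 1) : N) = _
    rw [map_one, one_smul]
  intro x y hxy
  rw [← hvu x, ← hvu y]
  refine congrArg v (hreg ?_)
  have h := congrArg u hxy
  simp only [LinearMap.map_smul_of_tower] at h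
  exact h

variable [Algebra.FinitePresentation A B] [Module.FinitePresentation B M]

/-- A fibrewise regular element is regular and the quotient is flat. -/
theorem regular_and_flat (hflat : Module.Flat A (LocalizedModule q.primeCompl M)) (b : B) (hb : b ∈ q)
    (hreg : IsSMulRegular (LocFibre (A := A) M q) b) :
    IsSMulRegular (LocalizedModule q.primeCompl M) b ∧
      Module.Flat A (LocalizedModule q.primeCompl M ⧸
        (Ideal.span {b} • ⊤ : Submodule B (LocalizedModule q.primeCompl M))) := by
  let algS : Algebra A[X] B := (Polynomial.aeval b).toRingHom.toAlgebra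
  have : IsScalarTower A A[X] B := IsScalarTower.of_algebraMap_eq fun a => (Polynomial.aeval_C b a).symm
  let modS : Module A[X] M := Module.compHom M (algebraMap A[X] B)
  have : IsScalarTower A[X] B M := ⟨fun s c m => by
    show (s • c) • m = algebraMap A[X] B s • c • m
    rw [Algebra.smul_def, mul_smul]⟩
  have hN := regular_on_quotient M q b hreg
  set p := q.comap (algebraMap A B)
  set Mq := LocalizedModule q.primeCompl M
  set T := Localization.AtPrime q
  set pT := p.map (algebraMap A T)
  have hfib : Module.Flat (A[X] ⧸ p.map (algebraMap A A[X]))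
      (Mq ⧸ p.map (algebraMap A A[X]) • (⊤ : Submodule A[X] Mq)) := by
    let Kp := FractionRing (A ⧸ p)
    have hle : pT ≤ IsLocalRing.maximalIdeal T := by
      show p.map _ ≤ _
      rw [IsScalarTower.algebraMap_eq A B T, ← Ideal.map_map, ← Localization.AtPrime.map_eq_maximalIdeal]
      exact Ideal.map_mono Ideal.map_comap_le
    have : Nontrivial (T ⧸ pT) :=
      Ideal.Quotient.nontrivial_iff.mpr (ne_top_of_le_ne_top (IsLocalRing.maximalIdeal.isMaximal T).ne_top hle)
    have : IsLocalRing (T ⧸ pT) := IsLocalRing.of_surjective' (Ideal.Quotient.mk pT) Ideal.Quotient.mk_surjective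
    let ψ₀ : A ⧸ p →+* T ⧸ pT := Ideal.quotientMap pT (algebraMap A T) Ideal.le_comap_map
    have hunit : ∀ y : nonZeroDivisors (A ⧸ p), IsUnit (ψ₀ y) := by
      rintro ⟨y, hy⟩
      obtain ⟨a, rfl⟩ := Ideal.Quotient.mk_surjective y
      show IsUnit (Ideal.Quotient.mk pT (algebraMap A T a))
      refine IsUnit.map _ ?_
      rw [IsScalarTower.algebraMap_apply A B T]
      refine IsLocalization.map_units T (⟨algebraMap A B a, fun h => ?_⟩ : q.primeCompl)
      exact nonZeroDivisors.ne_zero hy (Ideal.Quotient.eq_zero_iff_mem.mpr h)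
    let ψ : Kp →+* T ⧸ pT := IsLocalization.lift hunit
    let t : T ⧸ pT := Ideal.Quotient.mk pT (algebraMap B T b)
    have ht : t ∈ IsLocalRing.maximalIdeal (T ⧸ pT) := by
      have : IsLocalHom (Ideal.Quotient.mk pT) := IsLocalHom.of_surjective _ Ideal.Quotient.mk_surjective
      exact (IsLocalRing.mem_maximalIdeal _).mpr fun hu =>
        ((IsLocalization.AtPrime.to_map_mem_maximal_iff T q b).mpr hb) ((isUnit_map_iff (Ideal.Quotient.mk pT) _).mp hu)
    let N := Mq ⧸ (pT • ⊤ : Submodule T Mq)
    let modK : Module Kp[X] N := Module.compHom N (Polynomial.eval₂RingHom ψ t)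
    have hflatK : Module.Flat Kp[X] N := flat_polynomial_of_regular ψ ht (fun x y hxy => hN (by
      change t • x = t • y at hxy
      rw [show t = algebraMap T (T ⧸ pT) (algebraMap B T b) from rfl, algebraMap_smul, algebraMap_smul,
        algebraMap_smul, algebraMap_smul] at hxy
      exact hxy)) fun h y => rfl
    let ρ : A[X] ⧸ p.map (algebraMap A A[X]) →+* Kp[X] :=
      (Polynomial.mapRingHom (algebraMap (A ⧸ p) Kp)).comp
        (Ideal.Quotient.lift _ (Polynomial.mapRingHom (Ideal.Quotient.mk p)) (show p.map (algebraMap A A[X]) ≤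
          RingHom.ker (Polynomial.mapRingHom (Ideal.Quotient.mk p)) by
            rw [Polynomial.ker_mapRingHom, Ideal.mk_ker]; rfl))
    have hρ : ρ.Flat := by
      refine RingHom.Flat.comp (RingHom.Flat.of_bijective ⟨?_, ?_⟩) ?_
      · refine (injective_iff_map_eq_zero _).2 fun x hx => ?_
        obtain ⟨x, rfl⟩ := Ideal.Quotient.mk_surjective x
        rw [Ideal.Quotient.lift_mk, ← RingHom.mem_ker, Polynomial.ker_mapRingHom, Ideal.mk_ker] at hx
        exact Ideal.Quotient.eq_zero_iff_mem.2 hx
      · exact Ideal.Quotient.lift_surjective_of_surjective _ _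
          (Polynomial.map_surjective _ Ideal.Quotient.mk_surjective)
      · let : Algebra (A ⧸ p)[X] Kp[X] := (Polynomial.mapRingHom (algebraMap (A ⧸ p) Kp)).toAlgebra
        have := Polynomial.isLocalization (R := A ⧸ p) (nonZeroDivisors (A ⧸ p)) Kp
        exact RingHom.flat_algebraMap_iff.mpr
          (IsLocalization.flat Kp[X] ((nonZeroDivisors (A ⧸ p)).map (Polynomial.C : A ⧸ p →+* (A ⧸ p)[X])))
    let : Algebra (A[X] ⧸ p.map (algebraMap A A[X])) Kp[X] := ρ.toAlgebra
    have : Module.Flat (A[X] ⧸ p.map (algebraMap A A[X])) Kp[X] := hρ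
    let modQ : Module (A[X] ⧸ p.map (algebraMap A A[X])) N := Module.compHom N ρ
    have : IsScalarTower (A[X] ⧸ p.map (algebraMap A A[X])) Kp[X] N := ⟨fun s c y => by
      show (s • c) • y = ρ s • c • y
      rw [Algebra.smul_def, mul_smul]; rfl⟩
    have : Module.Flat (A[X] ⧸ p.map (algebraMap A A[X])) N := Module.Flat.trans _ Kp[X] _
    have hsm : ∀ (s : A[X]) (y : N),
        (Ideal.Quotient.mk (p.map (algebraMap A A[X])) s) • y = Polynomial.aeval b s • y := fun s y => by
      show Polynomial.eval₂ ψ t (ρ (Ideal.Quotient.mk _ s)) • y = _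
      rw [show ρ (Ideal.Quotient.mk _ s) = (s.map (Ideal.Quotient.mk p)).map (algebraMap (A ⧸ p) Kp) from rfl,
        Polynomial.map_map, Polynomial.eval₂_map,
        show (ψ.comp ((algebraMap (A ⧸ p) Kp).comp (Ideal.Quotient.mk p))) =
            ((Ideal.Quotient.mk pT).comp (algebraMap B T)).comp (algebraMap A B) from RingHom.ext fun a => by
          show ψ (algebraMap (A ⧸ p) Kp (Ideal.Quotient.mk p a)) = _
          rw [IsLocalization.lift_eq]
          exact congrArg (Ideal.Quotient.mk pT) (IsScalarTower.algebraMap_apply A B T a),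
        show t = ((Ideal.Quotient.mk pT).comp (algebraMap B T)) b from rfl, ← Polynomial.hom_eval₂,
        ← Polynomial.aeval_def]
      exact algebraMap_smul (T ⧸ pT) _ y
    have hsub : (p.map (algebraMap A A[X]) • (⊤ : Submodule A[X] Mq)).restrictScalars A =
        (pT • (⊤ : Submodule T Mq)).restrictScalars A := by
      rw [Ideal.smul_restrictScalars, Ideal.smul_restrictScalars, Submodule.restrictScalars_top,
        Submodule.restrictScalars_top]
    have hmem : ∀ x : Mq, x ∈ p.map (algebraMap A A[X]) • (⊤ : Submodule A[X] Mq) ↔ x ∈ pT • (⊤ : Submodule T Mq) :=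
      fun x => SetLike.ext_iff.1 hsub x
    let e : (Mq ⧸ p.map (algebraMap A A[X]) • (⊤ : Submodule A[X] Mq)) →ₗ[A[X] ⧸ p.map (algebraMap A A[X])] N :=
      { toFun := Quotient.map' id fun x y hxy => by
          rw [Submodule.quotientRel_def] at hxy ⊢
          exact (hmem _).1 hxy
        map_add' := fun x y => by
          obtain ⟨x, rfl⟩ := Submodule.Quotient.mk_surjective _ x
          obtain ⟨y, rfl⟩ := Submodule.Quotient.mk_surjective _ y
          rfl
        map_smul' := fun s x => by
          obtain ⟨s, rfl⟩ := Ideal.Quotient.mk_surjective s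
          obtain ⟨x, rfl⟩ := Submodule.Quotient.mk_surjective _ x
          rw [RingHom.id_apply, hsm]
          show Submodule.Quotient.mk (s • x) = Submodule.Quotient.mk (Polynomial.aeval b s • x)
          rw [← algebraMap_smul B s x]
          rfl }
    refine Module.Flat.of_linearEquiv (LinearEquiv.ofBijective e ⟨(injective_iff_map_eq_zero e).2 fun x hx => ?_,
      fun y => ?_⟩)
    · obtain ⟨x, rfl⟩ := Submodule.Quotient.mk_surjective _ x
      exact (Submodule.Quotient.mk_eq_zero _).2 ((hmem x).2 ((Submodule.Quotient.mk_eq_zero _).1 hx))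
    · obtain ⟨y, rfl⟩ := Submodule.Quotient.mk_surjective _ y
      exact ⟨Submodule.Quotient.mk y, rfl⟩
  have hS : Module.Flat A[X] Mq :=
    Groth.FlatDescent.flat_fibre_criterion_fp A A[X] (C := B) (M := M) q hflat hfib
  have hX : ∀ y : Mq, (Polynomial.X : A[X]) • y = b • y := fun y => by
    rw [← algebraMap_smul B (Polynomial.X : A[X]) y]
    show Polynomial.aeval b (Polynomial.X : A[X]) • y = _
    rw [Polynomial.aeval_X]
  refine ⟨fun x y hxy => ?_, ?_⟩
  · have h1 : IsSMulRegular A[X] (Polynomial.X : A[X]) := Polynomial.monic_X.isRegular.left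
    have h2 := IsSMulRegular.lTensor Mq h1
    refine (TensorProduct.rid A[X] Mq).symm.injective (h2 ?_)
    change (Polynomial.X : A[X]) • _ = (Polynomial.X : A[X]) • _
    rw [← map_smul, ← map_smul, hX, hX]
    exact congrArg _ hxy
  · let I : Ideal A[X] := Ideal.span {Polynomial.X}
    have hI : I = RingHom.ker (Polynomial.evalRingHom (0 : A)) := by
      ext f
      rw [RingHom.mem_ker, Ideal.mem_span_singleton, Polynomial.X_dvd_iff, Polynomial.coe_evalRingHom,
        Polynomial.coeff_zero_eq_eval_zero]
    let eA : A ≃+* A[X] ⧸ I := RingEquiv.ofBijective ((Ideal.Quotient.mk I).comp Polynomial.C)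
      ⟨(injective_iff_map_eq_zero _).2 fun a ha => by
          rw [RingHom.comp_apply, Ideal.Quotient.eq_zero_iff_mem, hI, RingHom.mem_ker] at ha
          simpa using ha,
        fun f => by
          obtain ⟨f, rfl⟩ := Ideal.Quotient.mk_surjective f
          refine ⟨f.eval 0, ?_⟩
          rw [RingHom.comp_apply, Ideal.Quotient.eq, hI, RingHom.mem_ker]
          simp⟩
    have : Module.Flat A (A[X] ⧸ I) := by
      have h1 : (algebraMap A (A[X] ⧸ I)).Flat := RingHom.Flat.of_bijective eA.bijective
      exact RingHom.flat_algebraMap_iff.1 h1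
    have : Module.Flat (A[X] ⧸ I) ((A[X] ⧸ I) ⊗[A[X]] Mq) := inferInstance
    have h3 : Module.Flat A ((A[X] ⧸ I) ⊗[A[X]] Mq) := Module.Flat.trans A (A[X] ⧸ I) _
    have hsub : (I • (⊤ : Submodule A[X] Mq)).restrictScalars A =
        (Ideal.span {b} • (⊤ : Submodule B Mq)).restrictScalars A := by
      ext x
      simp only [Submodule.restrictScalars_mem, I, Submodule.ideal_span_singleton_smul, Submodule.mem_smul_pointwise_iff_exists, hX]
      constructor <;> rintro ⟨y, -, rfl⟩ <;> exact ⟨y, Submodule.mem_top, rfl⟩
    exact Module.Flat.of_linearEquiv (((((TensorProduct.quotTensorEquivQuotSMul Mq I).restrictScalars A).trans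
      (Submodule.Quotient.restrictScalarsEquiv A _).symm).trans (Submodule.quotEquivOfEq _ _ hsub)).trans
      (Submodule.Quotient.restrictScalarsEquiv A _)).symm

end Groth.Agent.FibreReg
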