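import Groth.Agent.FibreReg.Basic
import Mathlib.RingTheory.Regular.RegularSequence

/-!
# Fibrewise regular sequences on flat finitely presented modules
-/

set_option autoImplicit false
universe u

open TensorProduct RingTheory.Sequence
open scoped Pointwise

namespace Groth.Agent.FibreReg

variable {A B : Type u} [CommRing A] [CommRing B] [Algebra A B] (q : Ideal B) [q.IsPrime]

theorem exact_lsmul (b : B) (M : Type u) [AddCommGroup M] [Module B M] :
    Function.Exact (LinearMap.lsmul B M b) (b • ⊤ : Submodule B M).mkQ := fun y => by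
  rw [Submodule.mkQ_apply, Submodule.Quotient.mk_eq_zero, Submodule.mem_smul_pointwise_iff_exists]
  exact ⟨fun ⟨z, _, hz⟩ => ⟨z, hz⟩, fun ⟨z, hz⟩ => ⟨z, trivial, hz⟩⟩

/-- Quotients by an element commute with localisation. -/
theorem exists_quotSMulTop_equiv {M M' : Type u} [AddCommGroup M] [Module B M] [AddCommGroup M'] [Module B M']
    (b : B) (π : M →ₗ[B] M') (hπ : Function.Surjective π) (h : Function.Exact (LinearMap.lsmul B M b) π) :
    Nonempty (QuotSMulTop b (LocalizedModule q.primeCompl M) ≃ₗ[B] LocalizedModule q.primeCompl M') := by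
  let g : LocalizedModule q.primeCompl M →ₗ[B] LocalizedModule q.primeCompl M' :=
    (LocalizedModule.map q.primeCompl π).restrictScalars B
  have hsurj : Function.Surjective g := LocalizedModule.map_surjective _ _ hπ
  have hex : Function.Exact (LocalizedModule.map q.primeCompl (LinearMap.lsmul B M b))
      (LocalizedModule.map q.primeCompl π) := LocalizedModule.map_exact q.primeCompl (LinearMap.lsmul B M b) π h
  have hl : ∀ x : LocalizedModule q.primeCompl M,
      LocalizedModule.map q.primeCompl (LinearMap.lsmul B M b) x = b • x := fun x => by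
    induction x using LocalizedModule.induction_on with
    | h m s => rw [LocalizedModule.map_mk, LocalizedModule.smul'_mk]; rfl
  have hker : LinearMap.ker g = (b • ⊤ : Submodule B (LocalizedModule q.primeCompl M)) := by
    ext x
    rw [LinearMap.mem_ker, Submodule.mem_smul_pointwise_iff_exists]
    show LocalizedModule.map q.primeCompl π x = 0 ↔ _
    rw [hex x]
    exact ⟨fun ⟨z, hz⟩ => ⟨z, trivial, (hl z).symm.trans hz⟩, fun ⟨z, _, hz⟩ => ⟨z, (hl z).trans hz⟩⟩
  exact ⟨(Submodule.quotEquivOfEq _ _ hker.symm).trans (g.quotKerEquivOfSurjective hsurj)⟩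

/-- Right exactness of `- ⊗[A] K` applied to multiplication by `b`. -/
theorem exact_rTensor_lsmul (b : B) {M M' : Type u} [AddCommGroup M] [Module B M] [Module A M] [IsScalarTower A B M]
    [AddCommGroup M'] [Module B M'] [Module A M'] [IsScalarTower A B M'] (π : M →ₗ[B] M')
    (hπ : Function.Surjective π) (hex : Function.Exact (LinearMap.lsmul B M b) π)
    (K : Type u) [AddCommGroup K] [Module A K] :
    Function.Exact (LinearMap.lsmul B (M ⊗[A] K) b) (TensorProduct.AlgebraTensorModule.rTensor A K π) ∧
      Function.Surjective (TensorProduct.AlgebraTensorModule.rTensor A K π) := by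
  have h0 : ∀ x, LinearMap.lsmul B (M ⊗[A] K) b x = ((LinearMap.lsmul B M b).restrictScalars A).rTensor K x := by
    intro x
    induction x using TensorProduct.induction_on with
    | zero => simp
    | add u v hu hv => rw [map_add, map_add, hu, hv]
    | tmul m k => rfl
  have h1 : Function.Exact (((LinearMap.lsmul B M b).restrictScalars A).rTensor K) ((π.restrictScalars A).rTensor K) :=
    rTensor_exact K (f := (LinearMap.lsmul B M b).restrictScalars A) (g := π.restrictScalars A) hex hπ
  refine ⟨fun y => ⟨fun hy => ?_, ?_⟩, LinearMap.rTensor_surjective K (g := π.restrictScalars A) hπ⟩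
  · obtain ⟨x, hx⟩ := (h1 y).1 hy
    exact ⟨x, (h0 x).trans hx⟩
  · rintro ⟨x, rfl⟩
    exact (h1 _).2 ⟨x, (h0 x).symm⟩

variable [Algebra.FinitePresentation A B]

theorem weaklyRegular_and_flat : ∀ (g : List B), (∀ b ∈ g, b ∈ q) →
    ∀ (M : Type u) [AddCommGroup M] [Module B M] [Module A M] [IsScalarTower A B M] [Module.FinitePresentation B M],
      Module.Flat A (LocalizedModule q.primeCompl M) → IsWeaklyRegular (LocFibre (A := A) M q) g →
      IsWeaklyRegular (LocalizedModule q.primeCompl M) g ∧
        ∀ i ≤ g.length, Module.Flat A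
          (LocalizedModule q.primeCompl (M ⧸ (Ideal.ofList (g.take i) • (⊤ : Submodule B M)))) := by
  intro g
  induction g with
  | nil =>
    intro _ M _ _ _ _ _ hflat _
    refine ⟨IsWeaklyRegular.nil _ _, fun i _ => ?_⟩
    let e : (M ⧸ (Ideal.ofList (([] : List B).take i) • (⊤ : Submodule B M))) ≃ₗ[B] M :=
      Submodule.quotEquivOfEqBot _ (by rw [List.take_nil, Ideal.ofList_nil, Submodule.bot_smul])
    exact Module.Flat.of_linearEquiv (LinearEquiv.ofBijective
      ((LocalizedModule.map q.primeCompl e.toLinearMap).restrictScalars A)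
      ⟨LocalizedModule.map_injective _ _ e.injective, LocalizedModule.map_surjective _ _ e.surjective⟩)
  | cons b g ih =>
    intro hg M _ _ _ _ _ hflat hreg
    obtain ⟨hb, hgs⟩ := (isWeaklyRegular_cons_iff _ b g).1 hreg
    obtain ⟨hbM, hflat'⟩ := regular_and_flat M q hflat b (hg b List.mem_cons_self) hb
    let M' := QuotSMulTop b M
    have : Module.FinitePresentation B M' :=
      Module.finitePresentation_of_surjective (b • ⊤ : Submodule B M).mkQ (Submodule.mkQ_surjective _) (by
        rw [Submodule.ker_mkQ, ← Submodule.ideal_span_singleton_smul]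
        exact Submodule.FG.smul (Submodule.fg_span_singleton b) Module.Finite.fg_top)
    -- the fibre of the quotient
    let K := (q.comap (algebraMap A B)).ResidueField
    let πK : M ⊗[A] K →ₗ[B] M' ⊗[A] K := TensorProduct.AlgebraTensorModule.rTensor A K (b • ⊤ : Submodule B M).mkQ
    have hexK := exact_rTensor_lsmul (A := A) b (b • ⊤ : Submodule B M).mkQ (Submodule.mkQ_surjective _)
      (exact_lsmul b M) K
    obtain ⟨eK⟩ := exists_quotSMulTop_equiv q b πK (hexK.2) (hexK.1)
    obtain ⟨eM⟩ := exists_quotSMulTop_equiv q b (b • ⊤ : Submodule B M).mkQ (Submodule.mkQ_surjective _) (exact_lsmul b M)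
    let e1 : (LocalizedModule q.primeCompl M ⧸ (Ideal.span {b} • ⊤ : Submodule B (LocalizedModule q.primeCompl M))) ≃ₗ[B]
        QuotSMulTop b (LocalizedModule q.primeCompl M) :=
      Submodule.quotEquivOfEq _ _ (Submodule.ideal_span_singleton_smul b (⊤ : Submodule B (LocalizedModule q.primeCompl M)))
    let e2 : (LocalizedModule q.primeCompl M ⧸ (Ideal.span {b} • ⊤ : Submodule B (LocalizedModule q.primeCompl M))) ≃ₗ[B]
        LocalizedModule q.primeCompl M' := e1.trans eM
    let e3 := LinearEquiv.ofBijective (e2.toLinearMap.restrictScalars A) e2.bijective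
    have hflatM' : Module.Flat A (LocalizedModule q.primeCompl M') := Module.Flat.of_linearEquiv e3.symm
    obtain ⟨h1, h2⟩ := ih (fun c hc => hg c (List.mem_cons_of_mem _ hc)) M' hflatM'
      ((eK.isWeaklyRegular_congr g).1 hgs)
    refine ⟨(isWeaklyRegular_cons_iff _ b g).2 ⟨hbM, (eM.isWeaklyRegular_congr g).2 h1⟩, fun i hi => ?_⟩
    cases i with
    | zero =>
      let e : (M ⧸ (Ideal.ofList ((b :: g).take 0) • (⊤ : Submodule B M))) ≃ₗ[B] M :=
        Submodule.quotEquivOfEqBot _ (by rw [List.take_zero, Ideal.ofList_nil, Submodule.bot_smul])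
      exact Module.Flat.of_linearEquiv (LinearEquiv.ofBijective
        ((LocalizedModule.map q.primeCompl e.toLinearMap).restrictScalars A)
        ⟨LocalizedModule.map_injective _ _ e.injective, LocalizedModule.map_surjective _ _ e.surjective⟩)
    | succ i =>
      have := h2 i (Nat.le_of_succ_le_succ hi)
      let e := Submodule.quotOfListConsSMulTopEquivQuotSMulTopInner M b (g.take i)
      show Module.Flat A (LocalizedModule q.primeCompl (M ⧸ (Ideal.ofList (b :: g.take i) • (⊤ : Submodule B M))))
      exact Module.Flat.of_linearEquiv (LinearEquiv.ofBijective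
        ((LocalizedModule.map q.primeCompl e.toLinearMap).restrictScalars A)
        ⟨LocalizedModule.map_injective _ _ e.injective, LocalizedModule.map_surjective _ _ e.surjective⟩)

/-- Regular sequences on the fibre. -/
theorem regular_and_flat_list (M : Type u) [AddCommGroup M] [Module B M] [Module A M] [IsScalarTower A B M]
    [Module.FinitePresentation B M] (g : List B) (hg : ∀ b ∈ g, b ∈ q)
    (hflat : Module.Flat A (LocalizedModule q.primeCompl M)) (hreg : IsRegular (LocFibre (A := A) M q) g) :
    IsRegular (LocalizedModule q.primeCompl M) g ∧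
      ∀ i ≤ g.length, Module.Flat A
        (LocalizedModule q.primeCompl (M ⧸ (Ideal.ofList (g.take i) • (⊤ : Submodule B M)))) := by
  obtain ⟨h1, h2⟩ := weaklyRegular_and_flat q g hg M hflat hreg.toIsWeaklyRegular
  refine ⟨⟨h1, fun htop => ?_⟩, h2⟩
  set Mq := LocalizedModule q.primeCompl M
  set T := Localization.AtPrime q
  have hne : Nontrivial Mq := by
    by_contra hn
    rw [not_nontrivial_iff_subsingleton] at hn
    refine hreg.top_ne_smul (Subsingleton.elim (h := ?_) _ _)
    suffices Subsingleton (LocFibre (A := A) M q) from inferInstance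
    rw [LocalizedModule.subsingleton_iff] at hn ⊢
    intro x
    induction x using TensorProduct.induction_on with
    | zero => exact ⟨1, q.primeCompl.one_mem, smul_zero _⟩
    | add u v hu hv =>
      obtain ⟨r, hr, hru⟩ := hu
      obtain ⟨r', hr', hrv⟩ := hv
      refine ⟨r * r', q.primeCompl.mul_mem hr hr', ?_⟩
      rw [smul_add, mul_comm r r', mul_smul, hru, smul_zero, mul_comm r' r, mul_smul, hrv, smul_zero, add_zero]
    | tmul m k =>
      obtain ⟨r, hr, hrm⟩ := hn m
      exact ⟨r, hr, by rw [TensorProduct.smul_tmul', hrm, TensorProduct.zero_tmul]⟩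
  have : Module.Finite T Mq := Module.Finite.of_isLocalizedModule q.primeCompl (LocalizedModule.mkLinearMap q.primeCompl M)
  have hle : (Ideal.ofList g).map (algebraMap B T) ≤ (Module.annihilator T Mq).jacobson := by
    refine le_trans ?_ (IsLocalRing.maximalIdeal_le_jacobson _)
    rw [← IsLocalization.AtPrime.map_eq_maximalIdeal q T]
    exact Ideal.map_mono (Ideal.span_le.2 fun x hx => hg x hx)
  refine Submodule.top_ne_ideal_smul_of_le_jacobson_annihilator hle (Submodule.restrictScalars_injective B _ _ ?_)
  rw [Ideal.smul_restrictScalars, Submodule.restrictScalars_top]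
  exact htop

end Groth.Agent.FibreReg
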